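import Groth.Agent.Sga7.H598.SNDef
import Mathlib.RingTheory.DiscreteValuationRing.Basic
import Mathlib.RingTheory.Localization.FractionRing
import Mathlib.RingTheory.LocalRing.ResidueField.Basic

/-!
# A seminormal local domain with unibranch normalization is normal

`surjective_of_sn`: let `A → B` be an injective finite homomorphism, `B` a discrete valuation ring, `A` seminormal,
`B` contained in the fraction field of `A` and `B = A + m_B`.  Then `A → B` is surjective.
-/

set_option autoImplicit false

namespace K761.EndsAlg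

open Groth.Agent.Sga7.H598.SNDef IsLocalRing

variable {A B : Type*} [CommRing A] [CommRing B] [Algebra A B]

/-- all high powers in the range implies in the range -/
theorem mem_range_of_pow [IsReduced B] (hinj : Function.Injective (algebraMap A B)) (h : SN A) (t : B)
    (n : ℕ) (hn : ∀ m, n ≤ m → t ^ m ∈ (algebraMap A B).range) : t ∈ (algebraMap A B).range := by
  induction n with
  | zero => simpa using hn 1 (Nat.zero_le _)
  | succ n ih =>
    by_cases h0 : n = 0
    · subst h0
      simpa using hn 1 le_rfl
    · apply ih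
      intro m hm
      rcases Nat.lt_or_ge n m with h1 | h1
      · exact hn m h1
      · have h2 : m = n := le_antisymm h1 hm
        subst h2
        have hm1 : 1 ≤ m := Nat.one_le_iff_ne_zero.2 h0
        apply SN.mem_range hinj h
        · rw [← pow_mul]
          exact hn _ (by omega)
        · rw [← pow_mul]
          exact hn _ (by omega)

/-- A common denominator. -/
theorem exists_denom [IsDomain B] [FaithfulSMul A B] [Module.Finite A B]
    (hfrac : ∀ b : B, ∃ a : A, a ≠ 0 ∧ algebraMap A B a * b ∈ (algebraMap A B).range) :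
    ∃ a : A, a ≠ 0 ∧ ∀ b : B, algebraMap A B a * b ∈ (algebraMap A B).range := by
  classical
  have hinj : Function.Injective (algebraMap A B) := FaithfulSMul.algebraMap_injective A B
  obtain ⟨s, hs⟩ := (Module.Finite.fg_top : (⊤ : Submodule A B).FG)
  choose d hd0 hd using hfrac
  refine ⟨∏ b ∈ s, d b, ?_, ?_⟩
  · intro h0
    have h1 := congrArg (algebraMap A B) h0
    rw [map_prod, map_zero, Finset.prod_eq_zero_iff] at h1
    obtain ⟨b, -, hb⟩ := h1
    exact hd0 b (hinj (by rw [hb, map_zero]))
  · intro b
    have hb : b ∈ Submodule.span A (s : Set B) := by rw [hs]; trivial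
    induction hb using Submodule.span_induction with
    | mem x hx =>
      rw [← Finset.mul_prod_erase s d hx, map_mul, mul_comm (algebraMap A B (d x)), mul_assoc]
      exact Subring.mul_mem _ ⟨_, rfl⟩ (hd x)
    | zero => rw [mul_zero]; exact Subring.zero_mem _
    | add x y _ _ hx hy => rw [mul_add]; exact Subring.add_mem _ hx hy
    | smul a x _ hx =>
      rw [Algebra.smul_def, ← mul_assoc, mul_comm (algebraMap A B _), mul_assoc]
      exact Subring.mul_mem _ ⟨_, rfl⟩ hx

/-- The main algebra statement. -/
theorem surjective_of_sn [IsDomain B] [IsDiscreteValuationRing B] [Module.Finite A B]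
    (hinj : Function.Injective (algebraMap A B)) (h : SN A)
    (hfrac : ∀ b : B, ∃ a : A, a ≠ 0 ∧ algebraMap A B a * b ∈ (algebraMap A B).range)
    (hres : ∀ b : B, ∃ a : A, b - algebraMap A B a ∈ maximalIdeal B) :
    Function.Surjective (algebraMap A B) := by
  have : FaithfulSMul A B := (faithfulSMul_iff_algebraMap_injective A B).2 hinj
  obtain ⟨a, ha0, ha⟩ := exists_denom hfrac
  have ha0' : algebraMap A B a ≠ 0 := fun h0 => ha0 (hinj (by rw [h0, map_zero]))
  obtain ⟨ϖ, hϖ⟩ := IsDiscreteValuationRing.exists_irreducible B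
  obtain ⟨N, u, hN⟩ := IsDiscreteValuationRing.eq_unit_mul_pow_irreducible ha0' hϖ
  have key : ∀ t ∈ maximalIdeal B, t ∈ (algebraMap A B).range := by
    intro t ht
    rw [hϖ.maximalIdeal_eq, Ideal.mem_span_singleton] at ht
    obtain ⟨s, rfl⟩ := ht
    refine mem_range_of_pow hinj h _ N fun m hm => ?_
    obtain ⟨j, rfl⟩ := Nat.exists_eq_add_of_le hm
    have h1 : (ϖ * s) ^ (N + j) = algebraMap A B a * (↑u⁻¹ * ϖ ^ j * s ^ (N + j)) := by
      rw [hN, mul_pow, pow_add]
      have : (u : B) * ↑u⁻¹ = 1 := u.mul_inv
      linear_combination (-(ϖ ^ N * ϖ ^ j * s ^ (N + j))) * this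
    rw [h1]
    exact ha _
  intro b
  obtain ⟨c, hc⟩ := hres b
  obtain ⟨d, hd⟩ := key _ hc
  exact ⟨d + c, by rw [map_add, hd]; ring⟩

end K761.EndsAlg
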