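import Groth.Agent.CurvesC.SpreadIso
import Groth.Agent.S0443
import Groth.Agent.SSMod.K761.EndsAlg
import Mathlib.AlgebraicGeometry.AlgClosed.Basic
import Mathlib.AlgebraicGeometry.ZariskisMainTheorem

/-!
# Generalities for `K761.Ends`

* `exists_lift`: lifting morphisms from reduced schemes through closed immersions.
* `isProper_of_subsingleton`: a reduced scheme, proper over `X₀` with image a point, is proper over the base field.
* `residueFieldMap_surjective`
* `valuationRing_of_unique`: a proper birational morphism `P ⟶ Y` which is injective over `y = g b`, with `O_{P,b}` a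
  discrete valuation ring and `O_{Y,y}` seminormal: then `O_{Y,y}` is a valuation ring.
-/

set_option autoImplicit false
universe u
open CategoryTheory CategoryTheory.Limits AlgebraicGeometry TopologicalSpace IsLocalRing

namespace K761.EndsGen

open Groth.Agent.CurvesC.SpreadIso Groth.Agent.Sga7.H598.SNDef

theorem exists_lift {Z W T : Scheme.{u}} (i : Z ⟶ W) [IsClosedImmersion i] (t : T ⟶ W) [IsReduced T]
    (h : Set.range t ⊆ Set.range i) : ∃ l : T ⟶ Z, l ≫ i = t := by
  have hs : Surjective (pullback.fst t i) := ⟨fun x => by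
    have : x ∈ Set.range (pullback.fst t i) := by
      rw [Scheme.Pullback.range_fst]
      exact h ⟨x, rfl⟩
    exact this⟩
  have : IsIso (pullback.fst t i) := isIso_of_isClosedImmersion_of_surjective _
  exact ⟨inv (pullback.fst t i) ≫ pullback.snd t i, by
    rw [Category.assoc, ← pullback.condition, IsIso.inv_hom_id_assoc]⟩

theorem isProper_of_subsingleton {k : Type u} [Field k] {Y X₀ : Scheme.{u}} [IsReduced Y] [Nonempty Y]
    (g : Y ⟶ X₀) [IsProper g] (q₀ : X₀ ⟶ Spec (CommRingCat.of k)) [LocallyOfFiniteType q₀]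
    (hsub : (Set.range g).Subsingleton) : IsProper (g ≫ q₀) := by
  obtain ⟨y₀⟩ := ‹Nonempty Y›
  have hr : Set.range g = {g y₀} := hsub.eq_singleton_of_mem ⟨y₀, rfl⟩
  have hcl : IsClosed ({g y₀} : Set X₀) := by
    rw [← hr]; exact g.isClosedMap.isClosed_range
  have h1 : IsClosedImmersion (X₀.fromSpecResidueField (g y₀)) :=
    isClosed_singleton_iff_isClosedImmersion.mp hcl
  obtain ⟨a, ha⟩ := exists_lift (X₀.fromSpecResidueField (g y₀)) g (by
    rw [hr, Scheme.range_fromSpecResidueField])
  have h2 : IsProper a := by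
    have : IsProper (a ≫ X₀.fromSpecResidueField (g y₀)) := by rw [ha]; infer_instance
    exact IsProper.of_comp a (X₀.fromSpecResidueField (g y₀))
  have h3 : IsFinite (X₀.fromSpecResidueField (g y₀) ≫ q₀) := by
    rw [isFinite_iff_locallyOfFiniteType_of_jacobsonSpace]
    infer_instance
  rw [← ha, Category.assoc]
  infer_instance

/-- Quasi-finiteness at a point of a morphism locally of finite type: the point is isolated in its fibre. -/
theorem quasiFiniteAt_of_open {X Y : Scheme.{u}} (f : X ⟶ Y) [LocallyOfFiniteType f] (x : X)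
    (N : X.Opens) (hxN : x ∈ N) (hN : ∀ y ∈ N, f y = f x → y = x) : f.QuasiFiniteAt x := by
  rw [Scheme.Hom.quasiFiniteAt_iff_isOpen_singleton_asFiber]
  have h1 : {f.asFiber x} = (f.fiberι (f x)).base ⁻¹' (N : Set X) := by
    ext z
    constructor
    · rintro rfl
      change f.fiberι (f x) (f.asFiber x) ∈ N
      rwa [f.fiberι_asFiber x]
    · intro hz
      have h2 : f.fiberι (f x) z ∈ f ⁻¹' {f x} := by
        rw [← Scheme.Hom.range_fiberι]; exact ⟨z, rfl⟩
      have h3 := hN _ hz h2
      exact (f.fiberι (f x)).isEmbedding.injective (h3.trans (f.fiberι_asFiber x).symm)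
  rw [h1]
  exact N.isOpen.preimage (f.fiberι (f x)).continuous

section Residue

variable {k : Type u} [Field k] [IsAlgClosed k]

theorem residueFieldMap_surjective {P Y : Scheme.{u}} (g : P ⟶ Y) (q : Y ⟶ Spec (CommRingCat.of k))
    [LocallyOfFiniteType (g ≫ q)] (b : P) (hb : IsClosed ({b} : Set P)) :
    Function.Surjective (g.residueFieldMap b).hom := by
  let a : CommRingCat.of k ⟶ Y.residueField (g b) := Spec.preimage (Y.fromSpecResidueField (g b) ≫ q)
  have ha : Spec.map a = Y.fromSpecResidueField (g b) ≫ q := Spec.map_preimage _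
  have h1 : a ≫ g.residueFieldMap b = (residueFieldIsoBase (g ≫ q) b hb).inv := by
    apply Spec.map_injective
    rw [Spec.map_comp, ha, SpecMap_residueFieldIsoBase_inv, ← Category.assoc,
      Scheme.Hom.SpecMap_residueFieldMap_fromSpecResidueField, Category.assoc]
  intro s
  have h2 : IsIso (a ≫ g.residueFieldMap b) := by rw [h1]; infer_instance
  obtain ⟨c, hc⟩ := (ConcreteCategory.bijective_of_isIso (a ≫ g.residueFieldMap b)).2 s
  exact ⟨a.hom c, hc⟩

end Residue

section Bir

theorem stalkMap_injective {C Q : Scheme.{u}} [IsIntegral C] [IsIntegral Q] {g : C ⟶ Q}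
    (hg : IsBir g) (x : C) : Function.Injective (g.stalkMap x).hom ∧
      ∀ s : C.presheaf.stalk x, ∃ a : Q.presheaf.stalk (g x), a ≠ 0 ∧
        ∃ c : Q.presheaf.stalk (g x), (g.stalkMap x).hom a * s = (g.stalkMap x).hom c := by
  obtain ⟨hgen, hbir⟩ := hg
  have hsp : genericPoint C ⤳ x := genericPoint_specializes x
  have hsp' : g (genericPoint C) ⤳ g x := hsp.map g.continuous
  have hcomm : ∀ a, (C.presheaf.stalkSpecializes hsp).hom ((g.stalkMap x).hom a) =
      (g.stalkMap (genericPoint C)).hom ((Q.presheaf.stalkSpecializes hsp').hom a) := by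
    intro a
    have := g.stalkSpecializes_stalkMap (genericPoint C) x hsp
    exact (ConcreteCategory.congr_hom this a).symm
  have hinjC : Function.Injective (C.presheaf.stalkSpecializes hsp).hom :=
    FaithfulSMul.algebraMap_injective (C.presheaf.stalk x) C.functionField
  have keyQ : ∀ z (hz : z = genericPoint Q) (h : z ⤳ g x),
      Function.Injective (Q.presheaf.stalkSpecializes h).hom ∧
      ∀ l : Q.presheaf.stalk z, ∃ a : Q.presheaf.stalk (g x), a ≠ 0 ∧ ∃ c : Q.presheaf.stalk (g x),
        (Q.presheaf.stalkSpecializes h).hom a * l = (Q.presheaf.stalkSpecializes h).hom c := by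
    rintro z rfl h
    refine ⟨FaithfulSMul.algebraMap_injective (Q.presheaf.stalk (g x)) Q.functionField, ?_⟩
    intro l
    obtain ⟨⟨c, a⟩, hca⟩ := IsLocalization.surj (nonZeroDivisors (Q.presheaf.stalk (g x)))
      (S := Q.functionField) l
    refine ⟨a, nonZeroDivisors.ne_zero a.2, c, ?_⟩
    rw [mul_comm]
    exact hca
  obtain ⟨hinjQ, hfr⟩ := keyQ _ hgen hsp'
  have hb : Function.Bijective (g.stalkMap (genericPoint C)).hom :=
    ConcreteCategory.bijective_of_isIso (g.stalkMap (genericPoint C))
  refine ⟨?_, ?_⟩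
  · intro a b hab
    have h1 := congrArg (C.presheaf.stalkSpecializes hsp).hom hab
    rw [hcomm, hcomm] at h1
    exact hinjQ (hb.1 h1)
  · intro s
    obtain ⟨l, hl⟩ := hb.2 ((C.presheaf.stalkSpecializes hsp).hom s)
    obtain ⟨a, ha, c, hc⟩ := hfr l
    refine ⟨a, ha, c, hinjC ?_⟩
    rw [map_mul, hcomm, hcomm, ← hl, ← map_mul, hc]

theorem valuationRing_of_unique {k : Type u} [Field k] [IsAlgClosed k] {P Y : Scheme.{u}} [IsIntegral P]
    [IsIntegral Y] (g : P ⟶ Y) (hg : IsBir g) [IsProper g] (q : Y ⟶ Spec (CommRingCat.of k))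
    [LocallyOfFiniteType q] (b : P) (hb : IsClosed ({b} : Set P))
    (hdvr : IsDiscreteValuationRing (P.presheaf.stalk b)) (hu : ∀ b', g b' = g b → b' = b)
    (hsn : SN (Y.presheaf.stalk (g b))) : ValuationRing (Y.presheaf.stalk (g b)) := by
  obtain ⟨hinj, hfr⟩ := stalkMap_injective hg b
  -- the stalk map is finite
  obtain ⟨V, hV, hVf⟩ := Groth.Agent.CycB.PushLocal.exists_isFinite_restrict g (g b) (by
    intro z hz
    refine quasiFiniteAt_of_open g z ⊤ trivial fun y _ hy => ?_
    rw [hu y (hy.trans hz), hu z hz])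
  have h1 := Groth.Agent.S0443.result (g ∣_ V) ⟨b, hV⟩ (by
    rintro ⟨x', hx'⟩ h
    apply Subtype.ext
    apply hu
    have h2 := congrArg V.ι h
    rw [← Scheme.Hom.comp_apply, ← Scheme.Hom.comp_apply, morphismRestrict_ι] at h2
    exact h2)
  have hfin : (g.stalkMap b).hom.Finite :=
    (RingHom.finite_respectsIso.arrow_mk_iso_iff (morphismRestrictStalkMap g V ⟨b, hV⟩)).1 h1
  let _ : Algebra (Y.presheaf.stalk (g b)) (P.presheaf.stalk b) := (g.stalkMap b).hom.toAlgebra
  have : Module.Finite (Y.presheaf.stalk (g b)) (P.presheaf.stalk b) := hfin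
  have hsurj : Function.Surjective (algebraMap (Y.presheaf.stalk (g b)) (P.presheaf.stalk b)) := by
    refine K761.EndsAlg.surjective_of_sn hinj hsn (fun s => ?_) (fun s => ?_)
    · obtain ⟨a, ha, c, hc⟩ := hfr s
      exact ⟨a, ha, c, hc.symm⟩
    · obtain ⟨r, hr⟩ := residueFieldMap_surjective g q b hb (P.residue b s)
      obtain ⟨a, rfl⟩ := Y.residue_surjective (g b) r
      refine ⟨a, ?_⟩
      rw [← Ideal.Quotient.eq_zero_iff_mem]
      have h3 : (P.residue b).hom ((g.stalkMap b).hom a) = (P.residue b).hom s := by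
        rw [← hr]
        exact (ConcreteCategory.congr_hom (Scheme.residue_residueFieldMap g b) a).symm
      have h4 : (P.residue b).hom (s - (g.stalkMap b).hom a) = 0 := by
        rw [map_sub, h3, sub_self]
      exact h4
  have e : Y.presheaf.stalk (g b) ≃+* P.presheaf.stalk b :=
    RingEquiv.ofBijective (g.stalkMap b).hom ⟨hinj, hsurj⟩
  exact Function.Surjective.valuationRing e.symm.toRingHom e.symm.surjective

end Bir

end K761.EndsGen
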