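import Groth.Prelude.Def_SSMod
import Groth.Agent.SSMod.K761.EndsGen
import Groth.Agent.Sga7.H598.SNNode
import Groth.Agent.CurvesB.NodeSub
import Groth.Agent.CurvesB.NodalDescent
import Groth.Agent.CurvesB.FibreBC
import Groth.Agent.CycB.ImageInt
import Groth.Agent.S2516
import Groth.Agent.S2344
import Groth.Agent.Models.H59.P1Fibre
import Groth.Agent.Lefpen.H717.ProjIrr

/-!
# Components of nodal curves with at most two ends

`K761.Ends.main`: let `X` be a nodal curve over an algebraically closed field `k`, `f : X ⟶ X₀` proper, `Z` an irreducible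
component of `X` contracted by `f`, `V ⊆ P^1` an open with at most two points in its complement, and `h : V ⟶ X` a
`k`-morphism into the smooth locus of `X`, birational onto `Z`.  If `Z` is not open, then `Z` is a copy of `P^1`,
and `Z` is contained in the union of the image of `h` and at most two more points.
-/

set_option autoImplicit false
universe u
open CategoryTheory CategoryTheory.Limits AlgebraicGeometry TopologicalSpace IsLocalRing

namespace K761.Ends

open Groth.Agent Groth.Agent.CurvesC.SpreadIso Groth.Agent.Sga7.H598.SNDef K761.EndsGen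
open Groth.Agent.Divis.CartierBasic

section Field

variable {k : Type u} [Field k]

/-- A nodal family over a field is an at-worst-nodal curve. -/
theorem nodal_field {X : Scheme.{u}} (q : X ⟶ Spec (CommRingCat.of k)) (h : Curv2.IsNodalFamily q) :
    @Curv2.AtWorstNodal k _ X ⟨q⟩ ∧ ∀ Z ∈ irreducibleComponents (↥X : Type u), topologicalKrullDim ↥Z = 1 := by
  obtain ⟨-, hfp, h⟩ := h
  let S := Spec (CommRingCat.of k)
  let s : S := IsLocalRing.closedPoint k
  obtain ⟨h1, h2⟩ := h s
  let a : CommRingCat.of k ⟶ S.residueField s := Spec.preimage (S.fromSpecResidueField s)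
  have ha : Spec.map a = S.fromSpecResidueField s := Spec.map_preimage _
  let _ : Algebra k (S.residueField s) := a.hom.toAlgebra
  have hpb0 : IsPullback (q.fiberι s) (q.fiberToSpecResidueField s) q (S.fromSpecResidueField s) :=
    IsPullback.of_hasPullback _ _
  rw [← ha] at hpb0
  have hpb : IsPullback (q.fiberι s) (q.fiberToSpecResidueField s) q
      (Spec.map (CommRingCat.ofHom (algebraMap k (S.residueField s)))) := hpb0
  have hd := CurvesB.FibreBC.dimOne_of_isPullback _ _ _ _ hpb h1
  refine ⟨?_, hd⟩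
  let i1 : X.Over (Spec (CommRingCat.of k)) := ⟨q⟩
  let i2 : (q.fiber s).Over (Spec (CommRingCat.of (S.residueField s))) := ⟨q.fiberToSpecResidueField s⟩
  exact @CurvesB.NodalDescent.atWorstNodal_of_isPullback k (S.residueField s) _ _ _ _ _ i1 i2 _ hpb
    (by assumption) hd h2

theorem mem_smoothLocus_iff {X Y : Scheme.{u}} (q : X ⟶ Y) [LocallyOfFinitePresentation q] (x : X) :
    x ∈ q.smoothLocus ↔ x ∉ DualGr.nonsmoothPts q := by
  rw [Scheme.Hom.mem_smoothLocus]
  exact not_not.symm

end Field

section P1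

variable (k : Type u) [Field k]

theorem valuationRing_P1 (b : CohB1.ProjSpace 1 k) : ValuationRing ((CohB1.ProjSpace 1 k).presheaf.stalk b) := by
  have h1 := Sga5.ProjReg.isRegularLocalRing_stalk 1 k b
  exact S2516.valuationRing_of_regular _
    ((CurvesB.DimPts.ringKrullDim_stalk_le b).trans (Models.H59.P1Fibre.topologicalKrullDim_P1 k).le)

/-- closed points of integral one-dimensional schemes -/
theorem ringKrullDim_stalk_eq_one {Y : Scheme.{u}} [IsIntegral Y] (hd : topologicalKrullDim Y = 1) (y : Y)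
    (hy : IsClosed ({y} : Set Y)) : ¬ IsField (Y.presheaf.stalk y) ∧ ringKrullDim (Y.presheaf.stalk y) = 1 := by
  have h1 : ¬ IsField (Y.presheaf.stalk y) := by
    refine CurvesB.NodeSub.not_isField_stalk (fun Z hZ => ?_) y hy
    rw [irreducibleComponents_eq_singleton] at hZ
    rw [Set.mem_singleton_iff.1 hZ, ← hd]
    exact (Homeomorph.Set.univ Y).isHomeomorph.topologicalKrullDim_eq
  refine ⟨h1, le_antisymm ((CurvesB.DimPts.ringKrullDim_stalk_le y).trans hd.le) ?_⟩
  by_contra hlt
  have h2 : ringKrullDim (Y.presheaf.stalk y) ≤ 0 := by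
    have h3 : ringKrullDim (Y.presheaf.stalk y) < ((0 : ℕ) : WithBot ℕ∞) + 1 := by
      rw [Nat.cast_zero, zero_add]
      exact not_le.1 hlt
    exact ENat.WithBot.lt_add_one_iff.1 h3
  have h3 : Ring.KrullDimLE 0 (Y.presheaf.stalk y) := Ring.krullDimLE_iff.2 h2
  apply h1
  rw [isField_iff_maximalIdeal_eq, ← Ring.KrullDimLE.nilradical_eq_maximalIdeal,
    nilradical_eq_bot_iff]
  infer_instance

theorem dvr_P1 (b : CohB1.ProjSpace 1 k) (hb : IsClosed ({b} : Set (CohB1.ProjSpace 1 k))) :
    IsDiscreteValuationRing ((CohB1.ProjSpace 1 k).presheaf.stalk b) := by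
  have h1 := valuationRing_P1 k b
  have h2 := (ringKrullDim_stalk_eq_one (Models.H59.P1Fibre.topologicalKrullDim_P1 k) b hb).1
  exact ((IsDiscreteValuationRing.TFAE ((CohB1.ProjSpace 1 k).presheaf.stalk b) h2).out 1 0).1 h1

end P1

section Comp

variable {k : Type u} [Field k] {X Y : Scheme.{u}} (q : X ⟶ Spec (CommRingCat.of k))
  (hX : Curv2.IsNodalFamily q) (i : Y ⟶ X) [IsClosedImmersion i] [IsIntegral Y]
  (hdY : topologicalKrullDim Y = 1)

include hX hdY

theorem bot_and_val (y : Y) (hy : IsClosed ({y} : Set Y)) (hs : i y ∉ DualGr.nonsmoothPts q) :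
    stalkIdeal i.ker (i y) = ⊥ ∧ ValuationRing (Y.presheaf.stalk y) := by
  have hfp : LocallyOfFinitePresentation q := hX.2.1
  rw [← mem_smoothLocus_iff] at hs
  have hdX := (nodal_field q hX).2
  have h1 : IsRegularLocalRing (X.presheaf.stalk (i y)) :=
    VarietyA.RegSmoothSch.isRegularLocalRing_stalk_of_mem_smoothLocus q (i y) hs
  have h2 := CurvesB.NodeSch2.krullDimLE_one_stalk
    (CurvesB.NodeSch2.topologicalKrullDim_le_one_of_components hdX) (i y)
  obtain ⟨e⟩ := CurvesB.NodeSub.nonempty_equiv i y (i y) rfl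
  obtain ⟨hT, hd⟩ := ringKrullDim_stalk_eq_one hdY y hy
  have hb : stalkIdeal i.ker (i y) = ⊥ :=
    CurvesB.NodeSub.eq_bot_of_isRegularLocalRing _ (isReduced_of_injective e.toRingHom e.injective)
      e.toEquiv.nontrivial (fun hf => hT (MulEquiv.isField hf e.symm.toMulEquiv))
  refine ⟨hb, ?_⟩
  have e2 : X.presheaf.stalk (i y) ≃+* Y.presheaf.stalk y :=
    ((RingEquiv.quotientBot _).symm.trans (Ideal.quotEquivOfEq hb.symm)).trans e
  have h3 : IsRegularLocalRing (Y.presheaf.stalk y) := IsRegularLocalRing.of_ringEquiv e2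
  exact S2516.valuationRing_of_regular _ hd.le

theorem bot_or_val (y : Y) (hy : IsClosed ({y} : Set Y)) (hs : i y ∈ DualGr.nonsmoothPts q) :
    stalkIdeal i.ker (i y) = ⊥ ∨ ValuationRing (Y.presheaf.stalk y) := by
  have hfp : LocallyOfFinitePresentation q := hX.2.1
  obtain ⟨hX1, hX2⟩ := nodal_field q hX
  let iX : X.Over (Spec (CommRingCat.of k)) := ⟨q⟩
  let iY : Y.Over (Spec (CommRingCat.of k)) := ⟨i ≫ q⟩
  have hlf : LocallyOfFiniteType (X ↘ Spec (CommRingCat.of k)) :=
    inferInstanceAs (LocallyOfFiniteType q)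
  have hlf' : LocallyOfFiniteType (Y ↘ Spec (CommRingCat.of k)) :=
    inferInstanceAs (LocallyOfFiniteType (i ≫ q))
  have hYfp : LocallyOfFinitePresentation (Y ↘ Spec (CommRingCat.of k)) :=
    CurvesB.NodeSch2.locallyOfFinitePresentation_of_field _
  have hJ : JacobsonSpace X := LocallyOfFiniteType.jacobsonSpace q
  have hx : IsClosed ({i y} : Set X) := by
    have := i.isClosedEmbedding.isClosedMap _ hy
    rwa [Set.image_singleton] at this
  obtain ⟨hT, hd⟩ := ringKrullDim_stalk_eq_one hdY y hy
  rcases hX1 (i y) hx with ⟨U, hU, hUs⟩ | hn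
  · have hUs' : Smooth (U.ι ≫ q) := hUs
    exact ((mem_smoothLocus_iff q (i y)).1 (VarietyA.SmoothLocusSch.le_smoothLocus q U hU) hs).elim
  · rcases CurvesB.NodeSub.eq_bot_or_mem_smoothLocus k i rfl y inferInstance hT hn with h | h
    · exact Or.inl h
    · right
      have h3 : IsRegularLocalRing (Y.presheaf.stalk y) :=
        VarietyA.RegSmoothSch.isRegularLocalRing_stalk_of_mem_smoothLocus _ y h
      exact S2516.valuationRing_of_regular _ hd.le

omit hdY [IsIntegral Y] in
theorem sn_of_bot (y : Y) (hy : IsClosed ({y} : Set Y)) (hb : stalkIdeal i.ker (i y) = ⊥) :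
    SN (Y.presheaf.stalk y) := by
  have hx : IsClosed ({i y} : Set X) := by
    have := i.isClosedEmbedding.isClosedMap _ hy
    rwa [Set.image_singleton] at this
  obtain ⟨e⟩ := CurvesB.NodeSub.nonempty_equiv i y (i y) rfl
  have e2 : X.presheaf.stalk (i y) ≃+* Y.presheaf.stalk y :=
    ((RingEquiv.quotientBot _).symm.trans (Ideal.quotEquivOfEq hb.symm)).trans e
  exact (Sga7.H598.SNNode.sn_stalk k X q hX (i y) hx).of_ringEquiv e2

omit hdY [IsIntegral Y] in
theorem isOpen_range_of_bot [CompactSpace Y]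
    (h : ∀ y : Y, IsClosed ({y} : Set Y) → stalkIdeal i.ker (i y) = ⊥) : IsOpen (Set.range i) := by
  have hfp : LocallyOfFinitePresentation q := hX.2.1
  have hNX : IsLocallyNoetherian X :=
    CurvesB.NodeSch2.isLocallyNoetherian_of_locallyOfFiniteType q
  have hifp : LocallyOfFinitePresentation i :=
    CurvesB.NodeSch2.locallyOfFinitePresentation_of_isLocallyNoetherian i
  have htop : i.smoothLocus = ⊤ := by
    rw [eq_top_iff]
    intro y _
    by_contra hy
    obtain ⟨z, hz, hzc⟩ := IsClosed.exists_closed_singleton (S := (i.smoothLocus : Set Y)ᶜ)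
      i.smoothLocus.isOpen.isClosed_compl ⟨y, hy⟩
    exact hz (CurvesB.NodeSub.mem_smoothLocus_of_stalkIdeal_eq_bot i z (h z hzc))
  have hE := CurvesB.NodeSub.etale_smoothLocus_ι_comp i
  have h1 : Set.range (i.smoothLocus.ι ≫ i) = Set.range i := by
    rw [Scheme.Hom.comp_base, TopCat.coe_comp, Set.range_comp, Scheme.Opens.range_ι, htop]
    simp
  rw [← h1]
  exact (i.smoothLocus.ι ≫ i).isOpenMap.isOpen_range

end Comp

section Points

theorem not_isClosed_genericPoint {Y : Scheme.{u}} [IsIntegral Y] (hd : topologicalKrullDim Y = 1) :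
    ¬ IsClosed ({genericPoint Y} : Set Y) := fun h => by
  apply (ringKrullDim_stalk_eq_one hd _ h).1
  exact Field.toIsField Y.functionField

theorem isClosed_of_ne {Y : Scheme.{u}} [IsIntegral Y] (hd : topologicalKrullDim Y ≤ 1) (y : Y)
    (hy : y ≠ genericPoint Y) : IsClosed ({y} : Set Y) := by
  by_contra h
  have h0 := CurvesB.DimPts.ringKrullDim_stalk_eq_zero_of_not_isClosed hd y h
  rw [ringKrullDim_stalk_eq_coheight] at h0
  have h1 : Order.coheight y = 0 := by exact_mod_cast h0
  rw [Order.coheight_eq_zero] at h1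
  have h3 : y ≤ genericPoint Y := (genericPoint_specializes y : genericPoint Y ⤳ y)
  have h4 : genericPoint Y ≤ y := h1 h3
  exact hy (Specializes.antisymm (h4 : y ⤳ genericPoint Y) (genericPoint_specializes y)).eq

end Points

section Iso

variable {k : Type u} [Field k] [IsAlgClosed k] {X Y : Scheme.{u}} (q : X ⟶ Spec (CommRingCat.of k))
  (hX : Curv2.IsNodalFamily q) (i : Y ⟶ X) [IsClosedImmersion i] [IsIntegral Y]
  (hdY : topologicalKrullDim Y = 1)

include hX hdY

theorem isIso_of_ends (hZo : ¬ IsOpen (Set.range i)) (hpY : IsProper (i ≫ q))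
    (e' : CohB1.ProjSpace 1 k ⟶ Y) (he : e' ≫ i ≫ q = CohB1.ProjSpace.toSpec 1 k) (hbir : IsBir e')
    (V : Set (CohB1.ProjSpace 1 k)) (hV : Vᶜ.encard ≤ 2)
    (hsm : ∀ v ∈ V, i (e' v) ∉ DualGr.nonsmoothPts q) : IsIso e' := by
  have hpe : IsProper e' := by
    have : IsProper (e' ≫ i ≫ q) := by rw [he]; infer_instance
    exact IsProper.of_comp e' (i ≫ q)
  have hsurj : Surjective e' := hbir.surjective
  have hcY : CompactSpace Y := QuasiCompact.compactSpace_of_compactSpace (i ≫ q)
  have hdP := Models.H59.P1Fibre.topologicalKrullDim_P1 k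
  have hval : ∀ y : Y, ValuationRing (Y.presheaf.stalk y) := by
    intro y
    by_cases hyg : y = genericPoint Y
    · subst hyg
      exact inferInstanceAs (ValuationRing Y.functionField)
    have hy : IsClosed ({y} : Set Y) := isClosed_of_ne hdY.le y hyg
    by_cases hns : i y ∈ DualGr.nonsmoothPts q
    · rcases bot_or_val q hX i hdY y hy hns with hb | hv
      · obtain ⟨b, rfl⟩ := hsurj.1 y
        have hbg : b ≠ genericPoint (CohB1.ProjSpace 1 k) := by
          rintro rfl
          exact hyg hbir.gen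
        have hbc : IsClosed ({b} : Set (CohB1.ProjSpace 1 k)) := isClosed_of_ne hdP.le b hbg
        by_cases hu : ∀ b', e' b' = e' b → b' = b
        · exact valuationRing_of_unique e' hbir (i ≫ q) b hbc (dvr_P1 k b hbc) hu
            (sn_of_bot q hX i _ hy hb)
        · exfalso
          push Not at hu
          obtain ⟨b', hb', hne⟩ := hu
          have hbV : b ∈ Vᶜ := fun h => hsm b h hns
          have hbV' : b' ∈ Vᶜ := fun h => hsm b' h (by rw [hb']; exact hns)
          have hVe : ({b, b'} : Set (CohB1.ProjSpace 1 k)) = Vᶜ := by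
            refine (Set.toFinite _).eq_of_subset_of_encard_le
              (Set.insert_subset hbV (Set.singleton_subset_iff.2 hbV')) ?_
            rw [Set.encard_pair hne.symm]
            exact hV
          apply hZo
          apply isOpen_range_of_bot q hX i
          intro y₁ hy₁
          obtain ⟨b₁, rfl⟩ := hsurj.1 y₁
          by_cases hb₁ : b₁ ∈ V
          · exact (bot_and_val q hX i hdY _ hy₁ (hsm b₁ hb₁)).1
          · have h1 : b₁ ∈ Vᶜ := hb₁
            rw [← hVe] at h1
            rcases h1 with rfl | h1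
            · exact hb
            · rw [Set.mem_singleton_iff] at h1
              rw [h1, hb']
              exact hb
      · exact hv
    · exact (bot_and_val q hX i hdY y hy hns).2
  have ho : IsOpenImmersion e' := Ega2.BiratOpen.isOpenImmersion e' hval hbir.gen hbir.bir
  exact (isIso_iff_isOpenImmersion_and_surjective e').2 ⟨ho, hsurj⟩

end Iso

section Main

theorem isIso_stalkMap_of_residue {P Y : Scheme.{u}} (g : P ⟶ Y) (p : P)
    (hP : IsField (P.presheaf.stalk p)) (hY : IsField (Y.presheaf.stalk (g p)))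
    (hs : Function.Surjective (g.residueFieldMap p).hom) : IsIso (g.stalkMap p) := by
  rw [ConcreteCategory.isIso_iff_bijective]
  have hiP : Function.Injective (P.residue p).hom := by
    let _ := hP.toField
    exact (P.residue p).hom.injective
  constructor
  · let _ := hY.toField
    exact (g.stalkMap p).hom.injective
  · intro s
    obtain ⟨r, hr⟩ := hs ((P.residue p).hom s)
    obtain ⟨a, rfl⟩ := Y.residue_surjective (g p) r
    refine ⟨a, hiP ?_⟩
    rw [← hr]
    exact (ConcreteCategory.congr_hom (Scheme.residue_residueFieldMap g p) a).symm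

/-- The main statement: ends of contracted components. -/
theorem main (k : Type u) [Field k] [IsAlgClosed k] {X X₀ : Scheme.{u}}
    (q : X ⟶ Spec (CommRingCat.of k)) (hX : Curv2.IsNodalFamily q) (f : X ⟶ X₀)
    (q₀ : X₀ ⟶ Spec (CommRingCat.of k)) [LocallyOfFiniteType q₀] [IsSeparated q₀] [IsProper f]
    (hf : f ≫ q₀ = q) (Z : Set X) (hZ : Z ∈ irreducibleComponents X) (hfZ : (f.base '' Z).Subsingleton)
    (hZo : ¬ IsOpen Z) (V : (CohB1.ProjSpace 1 k).Opens) (n : ℕ) (hn : n ≤ 2)
    (hV : ((V : Set (CohB1.ProjSpace 1 k))ᶜ).encard ≤ n) (h : (V : Scheme.{u}) ⟶ X)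
    (hh : h ≫ q = V.ι ≫ CohB1.ProjSpace.toSpec 1 k) (hsm : ∀ v, h.base v ∉ DualGr.nonsmoothPts q)
    (v₀ : V) (hv₀ : closure {v₀} = Set.univ) (hZ₀ : closure {h.base v₀} = Z)
    (hres : Function.Bijective (h.residueFieldMap v₀).hom) :
    ∃ e : CohB1.ProjSpace 1 k ⟶ X, IsClosedImmersion e ∧ e ≫ q = CohB1.ProjSpace.toSpec 1 k ∧
      Set.range e.base = Z ∧ ∃ B : Set X, B.encard ≤ n ∧ Z ⊆ Set.range h.base ∪ B := by
  have hne : Nonempty V := ⟨v₀⟩
  have hVint : IsIntegral V := isIntegral_of_isOpenImmersion V.ι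
  have hv₀g : genericPoint V = v₀ := (genericPoint_spec V).eq hv₀
  have hNV : NoetherianSpace (V : Scheme.{u}) := V.ι.isOpenEmbedding.isInducing.noetherianSpace
  have hqc : QuasiCompact h := inferInstance
  have hYint : IsIntegral h.image := CycB.ImageInt.isIntegral_image h
  -- the range of the image
  have hri : Set.range h.imageι = Z := by
    rw [Scheme.IdealSheafData.range_subschemeι, Scheme.Hom.support_ker, ← hZ₀]
    apply subset_antisymm
    · apply closure_minimal _ isClosed_closure
      rintro _ ⟨v, rfl⟩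
      have h1 : v₀ ⤳ v := by
        rw [specializes_iff_mem_closure, hv₀]; trivial
      exact specializes_iff_mem_closure.1 (h1.map h.continuous)
    · exact closure_mono (Set.singleton_subset_iff.2 ⟨v₀, rfl⟩)
  have hdY : topologicalKrullDim h.image = 1 := by
    have h1 := (nodal_field q hX).2 Z hZ
    rw [← h1, ← hri]
    exact (h.imageι.isEmbedding.toHomeomorph).isHomeomorph.topologicalKrullDim_eq
  -- properness
  have hpY : IsProper (h.imageι ≫ q) := by
    rw [← hf, ← Category.assoc]
    refine isProper_of_subsingleton (h.imageι ≫ f) q₀ ?_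
    rintro _ ⟨y, rfl⟩ _ ⟨y', rfl⟩
    rw [Scheme.Hom.comp_apply, Scheme.Hom.comp_apply]
    exact hfZ ⟨_, hri ▸ ⟨y, rfl⟩, rfl⟩ ⟨_, hri ▸ ⟨y', rfl⟩, rfl⟩
  let iY : h.image.Over (Spec (CommRingCat.of k)) := ⟨h.imageι ≫ q⟩
  -- the extension
  have hdP := Models.H59.P1Fibre.topologicalKrullDim_P1 k
  have hP1 : LocallyOfFiniteType (CohB1.ProjSpace 1 k ↘ Spec (CommRingCat.of k)) :=
    inferInstanceAs (LocallyOfFiniteType (CohB1.ProjSpace.toSpec 1 k))
  have hP2 : QuasiCompact (CohB1.ProjSpace 1 k ↘ Spec (CommRingCat.of k)) :=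
    inferInstanceAs (QuasiCompact (CohB1.ProjSpace.toSpec 1 k))
  have hP3 : IsSeparated (CohB1.ProjSpace 1 k ↘ Spec (CommRingCat.of k)) :=
    inferInstanceAs (IsSeparated (CohB1.ProjSpace.toSpec 1 k))
  have hP4 : IsProper (h.image ↘ Spec (CommRingCat.of k)) := hpY
  obtain ⟨e', ⟨he1, he2⟩, -⟩ := S2344.result k (CohB1.ProjSpace 1 k) h.image
    (fun x hx => (ringKrullDim_stalk_eq_one hdP x hx).2)
    (fun x => by
      have := valuationRing_P1 k x
      exact ⟨inferInstance, inferInstance⟩) V
    (V.isOpen.dense ⟨_, v₀.2⟩) h.toImage (by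
      change h.toImage ≫ h.imageι ≫ q = _
      rw [← Category.assoc, Scheme.Hom.toImage_imageι, hh]
      rfl)
  have he2' : e' ≫ h.imageι ≫ q = CohB1.ProjSpace.toSpec 1 k := he2
  -- it is birational
  have hgP : V.ι v₀ = genericPoint (CohB1.ProjSpace 1 k) := by
    rw [← hv₀g]
    exact genericPoint_eq_of_isOpenImmersion V.ι
  have hgen : e' (genericPoint (CohB1.ProjSpace 1 k)) = genericPoint h.image := by
    rw [← hgP, ← Scheme.Hom.comp_apply, he1, ← hv₀g]
    exact CycB.ImageInt.toImage_genericPoint h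
  have hr1 : Function.Surjective (h.toImage.residueFieldMap v₀).hom := by
    have key : ∀ g : (V : Scheme.{u}) ⟶ X, g = h → Function.Surjective (g.residueFieldMap v₀).hom := by
      rintro _ rfl; exact hres.2
    have h1 := key _ h.toImage_imageι
    rw [Scheme.residueFieldMap_comp] at h1
    exact Function.Surjective.of_comp (g := (h.imageι.residueFieldMap (h.toImage v₀)).hom) h1
  have hr2 : Function.Surjective (e'.residueFieldMap (V.ι v₀)).hom := by
    have key : ∀ g : (V : Scheme.{u}) ⟶ h.image, g = h.toImage →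
        Function.Surjective (g.residueFieldMap v₀).hom := by
      rintro _ rfl; exact hr1
    have h1 := key _ he1
    rw [Scheme.residueFieldMap_comp] at h1
    intro s
    obtain ⟨r, hr⟩ := h1 ((V.ι.residueFieldMap v₀).hom s)
    exact ⟨r, (V.ι.residueFieldMap v₀).hom.injective hr⟩
  have hbir : IsBir e' := by
    refine ⟨hgen, ?_⟩
    apply isIso_stalkMap_of_residue
    · exact Field.toIsField (CohB1.ProjSpace 1 k).functionField
    · rw [hgen]
      exact Field.toIsField h.image.functionField
    · rw [← hgP]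
      exact hr2
  have hkey : ∀ w : (V : Scheme.{u}), h.imageι (e' (V.ι w)) = h w := fun w => by
    have h1 : (V.ι ≫ e') w = h.toImage w := by rw [he1]
    have h2 : (h.toImage ≫ h.imageι) w = h w := by rw [Scheme.Hom.toImage_imageι]
    rw [Scheme.Hom.comp_apply] at h1 h2
    rw [h1, h2]
  have hiso : IsIso e' := by
    refine isIso_of_ends q hX h.imageι hdY (by rwa [hri]) hpY e' he2' hbir V
      (hV.trans (by exact_mod_cast hn)) ?_
    intro v hv
    have h1 : h.imageι (e' v) = h ⟨v, hv⟩ := hkey ⟨v, hv⟩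
    rw [h1]
    exact hsm _
  refine ⟨e' ≫ h.imageι, inferInstance, by rw [Category.assoc, he2'], ?_, (e' ≫ h.imageι) '' (V : Set _)ᶜ,
    (Set.encard_image_le _ _).trans hV, ?_⟩
  · rw [← hri, Scheme.Hom.comp_base, TopCat.coe_comp, Set.range_comp, e'.surjective.range_eq, Set.image_univ]
  · intro z hz
    rw [← hri] at hz
    obtain ⟨y, rfl⟩ := hz
    obtain ⟨b, rfl⟩ := e'.surjective y
    by_cases hb : b ∈ V
    · left
      exact ⟨⟨b, hb⟩, (hkey ⟨b, hb⟩).symm⟩
    · right
      exact ⟨b, hb, Scheme.Hom.comp_apply _ _ _⟩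

end Main

end K761.Ends
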