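import Groth.Agent.SSMod.K807.Iface2
import Groth.Agent.SSMod.K807.Gen
import Groth.Agent.SSMod.K761.ExtGen
import Groth.Agent.SSMod.K122.ValBase
import Groth.Agent.SSMod.K971.EtaNbhd
import Groth.Agent.SSMod.K971.FinFib
import Groth.Agent.SSMod.K481.Marks
import Groth.Agent.Fdesc.QuasiCompactTop
import Groth.Agent.S0408

/-!
# The extension statement for modifications over a discrete valuation ring
-/

set_option autoImplicit false
universe u
open CategoryTheory CategoryTheory.Limits AlgebraicGeometry TopologicalSpace IsLocalRing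

namespace K761.Ext

/-- The residue field of a closed point over the closed point is a quotient of the base. -/
theorem surjective_of_isClosed {R : Type u} [CommRing R] [IsLocalRing R] [IsAlgClosed (ResidueField R)]
    {U : Scheme.{u}} (q : U ⟶ Spec (CommRingCat.of R)) [LocallyOfFiniteType q] (u : U)
    (hu : IsClosed ({u} : Set U)) (hq : q u = (closedPoint R : PrimeSpectrum R)) :
    Function.Surjective (Spec.preimage (U.fromSpecResidueField u ≫ q)).hom := by
  rw [isClosed_singleton_iff_isClosedImmersion] at hu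
  set ρ := Spec.preimage (U.fromSpecResidueField u ≫ q) with hρ
  have h1 : Spec.map ρ = U.fromSpecResidueField u ≫ q := Spec.map_preimage _
  have h2 : LocallyOfFiniteType (Spec.map ρ) := by rw [h1]; infer_instance
  have h3 : ρ.hom.FiniteType := (HasRingHomProperty.Spec_iff (P := @LocallyOfFiniteType)).1 h2
  have h4 : Spec.map ρ (closedPoint (U.residueField u)) = (closedPoint R : PrimeSpectrum R) := by
    rw [h1, Scheme.Hom.comp_apply, Scheme.fromSpecResidueField_apply, hq]
  have h5 : ∀ r ∈ maximalIdeal R, ρ.hom r = 0 := by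
    intro r hr
    have h6 : (maximalIdeal (U.residueField u)).comap ρ.hom = maximalIdeal R :=
      congrArg PrimeSpectrum.asIdeal h4
    rw [← h6, Ideal.mem_comap, IsLocalRing.maximalIdeal_eq_bot] at hr
    exact hr
  let ψ : ResidueField R →+* U.residueField u := Ideal.Quotient.lift (maximalIdeal R) ρ.hom h5
  have h7 : ψ.comp (residue R) = ρ.hom := RingHom.ext fun r => rfl
  have h8 : ψ.FiniteType := by
    rw [← h7] at h3
    exact RingHom.FiniteType.of_comp_finiteType h3
  have h9 : ψ.IsIntegral := by
    let _ : Algebra (ResidueField R) (U.residueField u) := ψ.toAlgebra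
    have : Algebra.FiniteType (ResidueField R) (U.residueField u) := h8
    have : Module.Finite (ResidueField R) (U.residueField u) := finite_of_finite_type_of_isJacobsonRing _ _
    exact algebraMap_isIntegral_iff.2 inferInstance
  have h10 := IsAlgClosed.ringHom_bijective_of_isIntegral ψ h9
  rw [← h7]
  exact h10.2.comp residue_surjective

theorem residueFieldMap_surjective {R : Type u} [CommRing R] [IsLocalRing R] [IsAlgClosed (ResidueField R)]
    {U C : Scheme.{u}} (β : U ⟶ C) (φ : C ⟶ Spec (CommRingCat.of R)) [LocallyOfFiniteType (β ≫ φ)] (u : U)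
    (hu : IsClosed ({u} : Set U)) (hq : φ (β u) = (closedPoint R : PrimeSpectrum R)) :
    Function.Surjective (β.residueFieldMap u) := by
  have h1 := surjective_of_isClosed (β ≫ φ) u hu (by rw [Scheme.Hom.comp_apply, hq])
  have h2 : Spec.preimage (U.fromSpecResidueField u ≫ β ≫ φ) =
      Spec.preimage (C.fromSpecResidueField (β u) ≫ φ) ≫ β.residueFieldMap u := by
    apply Spec.map_injective
    rw [Spec.map_comp, Spec.map_preimage, Spec.map_preimage, ← Category.assoc (Spec.map _),
      Scheme.Hom.SpecMap_residueFieldMap_fromSpecResidueField, Category.assoc]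
  rw [h2] at h1
  exact Function.Surjective.of_comp (g := (Spec.preimage (C.fromSpecResidueField (β u) ≫ φ)).hom) h1

section Dvr

variable {R : Type u} [CommRing R] [IsDomain R] [IsDiscreteValuationRing R]

/-- A discrete valuation ring centred at a given point of the special fibre, with generic point in the range of a
schematically dominant morphism from something over the generic point. -/
theorem exists_dvr {W V : Scheme.{u}} [IsLocallyNoetherian W] (q : W ⟶ Spec (CommRingCat.of R)) (s : V ⟶ W)
    [QuasiCompact s] [IsSchemeTheoreticallyDominant s] (hs : ∀ z, q (s z) ≠ (closedPoint R : PrimeSpectrum R)) (w : W)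
    (hw : q w = (closedPoint R : PrimeSpectrum R)) :
    ∃ (T : Type u) (_ : CommRing T) (_ : IsDomain T) (_ : IsDiscreteValuationRing T)
      (g : Spec (CommRingCat.of T) ⟶ W), g (closedPoint T : PrimeSpectrum T) = w ∧
        q (g (⊥ : PrimeSpectrum T)) ≠ (closedPoint R : PrimeSpectrum R) := by
  have hw' : w ∈ closure (Set.range s) := by
    have h1 : DenseRange s := s.denseRange
    exact h1 w
  obtain ⟨v, hv⟩ := Groth.Agent.Fdesc.QuasiCompactTop.exists_specializes_of_mem_closure_range s w hw'
  have hne : s v ≠ w := fun h => hs v (by rw [h, hw])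
  obtain ⟨T, i1, i2, i3, i4, i5, g, hg1, hg2⟩ :=
    Groth.Agent.Ega43.DvrScheme.exists_dvr_of_specializes hv hne
      (W.residueField (s v)) (𝟙 _) (by
        rw [CommRingCat.hom_id]
        exact RingHom.FiniteType.essFiniteType (RingHom.FiniteType.id _))
  refine ⟨T, i1, i2, i3, g, hg1, ?_⟩
  have h1 := congrArg (fun f : Spec (CommRingCat.of (W.residueField (s v))) ⟶ W =>
    f (closedPoint (W.residueField (s v)))) hg2
  have h2 : g (⊥ : PrimeSpectrum T) = s v := by
    have h3 : (Spec.map (𝟙 (W.residueField (s v))) ≫ W.fromSpecResidueField (s v)) (closedPoint (W.residueField (s v))) =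
        s v := by
      rw [Scheme.Hom.comp_apply]
      exact Scheme.fromSpecResidueField_apply _ _
    rw [← h3]
    refine Eq.trans ?_ h1
    change _ = (Spec.map (CommRingCat.ofHom (algebraMap T (W.residueField (s v)))) ≫ g) (closedPoint (W.residueField (s v)))
    rw [Scheme.Hom.comp_apply]
    congr 1
    apply PrimeSpectrum.ext
    change (⊥ : Ideal T) = (maximalIdeal (W.residueField (s v))).comap (algebraMap T (W.residueField (s v)))
    rw [IsLocalRing.maximalIdeal_eq_bot, ← RingHom.ker_eq_comap_bot]
    exact ((RingHom.injective_iff_ker_eq_bot _).1 (IsFractionRing.injective T (W.residueField (s v)))).symm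
  rw [h2]
  exact hs v

/-- Two lifts of a morphism from the spectrum of a domain whose generic point lies over the generic point agree. -/
theorem hom_eq {C X : Scheme.{u}} {φ : C ⟶ Spec (CommRingCat.of R)} {f : X ⟶ C} [IsSeparated f]
    (hη : SSMod.IsEtaIso φ f) {T : Type u} [CommRing T] [IsDomain T] (a : Spec (CommRingCat.of T) ⟶ C)
    (ha : φ (a (⊥ : PrimeSpectrum T)) ≠ (closedPoint R : PrimeSpectrum R)) (x y : Spec (CommRingCat.of T) ⟶ X)
    (hx : x ≫ f = a) (hy : y ≫ f = a) : x = y := by
  have hdomT : IsDomain (CommRingCat.of T) := inferInstanceAs (IsDomain T)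
  have hdomR : IsDomain (CommRingCat.of R) := inferInstanceAs (IsDomain R)
  have hgen : φ (a (⊥ : PrimeSpectrum T)) = genericPoint (Spec (CommRingCat.of R)) := K481.Marks.eq_genericPoint ha
  have hfl : Flat (a ≫ φ) := by
    obtain ⟨ρ, hρ⟩ : ∃ ρ : CommRingCat.of R ⟶ CommRingCat.of T, Spec.map ρ = a ≫ φ :=
      ⟨Spec.preimage (a ≫ φ), Spec.map_preimage _⟩
    have h1 : Spec.map ρ (⊥ : PrimeSpectrum T) = (⊥ : PrimeSpectrum R) := by
      rw [hρ, Scheme.Hom.comp_apply, hgen, genericPoint_eq_bot_of_affine]
    have h2 : (⊥ : Ideal T).comap ρ.hom = ⊥ := congrArg PrimeSpectrum.asIdeal h1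
    have h3 : Function.Injective ρ.hom := by
      rw [RingHom.injective_iff_ker_eq_bot, RingHom.ker_eq_comap_bot]
      exact h2
    rw [← hρ, Flat.SpecMap_iff]
    let _ : Algebra R T := ρ.hom.toAlgebra
    change Module.Flat R T
    rw [Module.Flat.flat_iff_torsion_eq_bot_of_isBezout, eq_bot_iff]
    rintro t ⟨⟨r, hr⟩, hx⟩
    have h4 : ρ.hom r * t = 0 := hx
    rcases mul_eq_zero.1 h4 with h5 | h5
    · exact absurd (h3 (h5.trans (map_zero _).symm)) (nonZeroDivisors.ne_zero hr)
    · exact h5
  have hη' : IsIso (pullback.snd f (pullback.fst φ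
    ((Spec (CommRingCat.of R)).fromSpecStalk (genericPoint (Spec (CommRingCat.of R)))))) := hη
  exact K263.EtaUniq.hom_ext φ f inferInstance (𝟙 _) rfl (a ≫ φ) a (Category.comp_id _).symm x y hx hy

end Dvr

section Main

variable {R : Type u} [CommRing R] [IsDomain R] [IsDiscreteValuationRing R]
    {C X U : Scheme.{u}} {φ : C ⟶ Spec (CommRingCat.of R)} {f : X ⟶ C}
    {β : U ⟶ C} (G : ExtGen.Graph f β (β ≫ φ))

omit [IsDiscreteValuationRing R] in
theorem w_eq : (G.j ≫ pullback.snd f β) ≫ β = (G.j ≫ pullback.fst f β) ≫ f := by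
  rw [Category.assoc, Category.assoc, pullback.condition]

omit [IsDiscreteValuationRing R] in
theorem s_snd : G.s ≫ G.j ≫ pullback.snd f β =
    pullback.fst (β ≫ φ) ((Spec (CommRingCat.of R)).fromSpecStalk (genericPoint (Spec (CommRingCat.of R)))) := by
  have h1 := G.pb.w
  rw [Category.id_comp] at h1
  exact h1

theorem s_ne (z) : (β ≫ φ) ((G.j ≫ pullback.snd f β) (G.s z)) ≠ (closedPoint R : PrimeSpectrum R) := by
  have h1 : (β ≫ φ) ((G.j ≫ pullback.snd f β) (G.s z)) = (((G.s ≫ G.j ≫ pullback.snd f β)) ≫ (β ≫ φ)) z := by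
    simp only [Scheme.Hom.comp_apply]
  rw [h1, s_snd, pullback.condition, Scheme.Hom.comp_apply, K263.GenFibre.apply_fromSpecStalk]
  exact K481.Marks.genericPoint_ne

/-- The fibres over the generic point. -/
theorem subsingleton_generic (u : U) (hu : (β ≫ φ) u ≠ (closedPoint R : PrimeSpectrum R)) :
    ((G.j ≫ pullback.snd f β) ⁻¹' {u}).Subsingleton := by
  set h := G.j ≫ pullback.snd f β with hh
  obtain ⟨z, hz⟩ : ∃ z, pullback.fst (β ≫ φ)
      ((Spec (CommRingCat.of R)).fromSpecStalk (genericPoint (Spec (CommRingCat.of R)))) z = u := by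
    have h1 : u ∈ Set.range (pullback.fst (β ≫ φ)
      ((Spec (CommRingCat.of R)).fromSpecStalk (genericPoint (Spec (CommRingCat.of R))))) := by
      rw [Scheme.Pullback.range_fst]
      refine ⟨closedPoint _, ?_⟩
      rw [Scheme.fromSpecStalk_closedPoint]
      exact (K481.Marks.eq_genericPoint hu).symm
    exact h1
  have key : ∀ w, h w = u → w = G.s z := by
    intro w hw
    obtain ⟨t, h1, h2⟩ := Scheme.Pullback.exists_preimage_pullback (f := h) (g := pullback.fst (β ≫ φ)
      ((Spec (CommRingCat.of R)).fromSpecStalk (genericPoint (Spec (CommRingCat.of R))))) w z (by rw [hw, hz])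
    have h3 : G.s (G.pb.isoPullback.inv t) = w := by
      rw [← Scheme.Hom.comp_apply, G.pb.isoPullback_inv_fst]
      exact h1
    have h4 : G.pb.isoPullback.inv t = z := by
      have h5 : (G.pb.isoPullback.inv ≫ 𝟙 _) t = z := by
        rw [G.pb.isoPullback_inv_snd]
        exact h2
      rwa [Category.comp_id] at h5
    rw [← h3, h4]
  intro w hw w' hw'
  rw [key w hw, key w' hw']

/-- The data of a discrete valuation ring at a point of the special fibre of the graph. -/
theorem exists_dvr_graph [LocallyOfFiniteType (β ≫ φ)] [IsProper f] (w : G.W)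
    (hw : (β ≫ φ) ((G.j ≫ pullback.snd f β) w) = (closedPoint R : PrimeSpectrum R)) :
    ∃ (T : Type u) (_ : CommRing T) (_ : IsDomain T) (_ : IsDiscreteValuationRing T)
      (g : Spec (CommRingCat.of T) ⟶ G.W), g (closedPoint T : PrimeSpectrum T) = w ∧
        φ (f ((G.j ≫ pullback.fst f β) (g (⊥ : PrimeSpectrum T)))) ≠ (closedPoint R : PrimeSpectrum R) := by
  have h1 := G.closed
  have h2 := G.dom
  have h3 := G.qc
  have hU : IsLocallyNoetherian U := LocallyOfFiniteType.isLocallyNoetherian (β ≫ φ)
  have hW : IsLocallyNoetherian G.W := LocallyOfFiniteType.isLocallyNoetherian (G.j ≫ pullback.snd f β)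
  obtain ⟨T, i1, i2, i3, g, hg, hg'⟩ := exists_dvr ((G.j ≫ pullback.snd f β) ≫ β ≫ φ) G.s (fun z => by
    rw [Scheme.Hom.comp_apply]
    exact s_ne G z) w (by rw [Scheme.Hom.comp_apply, hw])
  refine ⟨T, i1, i2, i3, g, hg, ?_⟩
  rw [← Category.assoc, w_eq, Category.assoc, Scheme.Hom.comp_apply, Scheme.Hom.comp_apply] at hg'
  exact hg'

/-- The fibres over the non-closed points of the special fibre. -/
theorem subsingleton_of_not_isClosed [IsProper f] (hη : SSMod.IsEtaIso φ f) (hβ : Curv2.IsNodalFamily (β ≫ φ))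
    (u : U) (hu : (β ≫ φ) u = (closedPoint R : PrimeSpectrum R)) (hnc : ¬ IsClosed ({u} : Set U)) :
    ((G.j ≫ pullback.snd f β) ⁻¹' {u}).Subsingleton := by
  have hlfp : LocallyOfFinitePresentation (β ≫ φ) := hβ.2.1
  set h := G.j ≫ pullback.snd f β with hh
  obtain ⟨hdom, hdvr⟩ := K807.Gen.isDiscreteValuationRing hβ hu hnc
  have hcl := G.closed
  let O := U.presheaf.stalk u
  have hdO : IsDomain O := hdom
  have hdvO : IsDiscreteValuationRing O := hdvr
  have hval : ValuationRing O := inferInstance
  let K := FractionRing O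
  let S := Spec (CommRingCat.of R)
  let η := genericPoint S
  -- the generic point of `Spec O`
  let g₀ : Spec (CommRingCat.of K) ⟶ U := Spec.map (CommRingCat.ofHom (algebraMap O K)) ≫ U.fromSpecStalk u
  have hpt : Spec.map (CommRingCat.ofHom (algebraMap O K)) (closedPoint K : PrimeSpectrum K) = (⊥ : PrimeSpectrum O) := by
    apply PrimeSpectrum.ext
    change (maximalIdeal K).comap (algebraMap O K) = (⊥ : Ideal O)
    rw [IsLocalRing.maximalIdeal_eq_bot, ← RingHom.ker_eq_comap_bot]
    exact (RingHom.injective_iff_ker_eq_bot _).1 (IsFractionRing.injective O K)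
  have hg₀ : (β ≫ φ) (g₀ (closedPoint K : PrimeSpectrum K)) ≠ (closedPoint R : PrimeSpectrum R) := by
    have h1 : g₀ (closedPoint K : PrimeSpectrum K) = U.fromSpecStalk u (⊥ : PrimeSpectrum O) := by
      rw [Scheme.Hom.comp_apply, hpt]
    rw [h1]
    intro h2
    have h3 : U.fromSpecStalk u (⊥ : PrimeSpectrum O) ⤳ u := by
      have h4 : U.fromSpecStalk u (⊥ : PrimeSpectrum O) ∈ Set.range (U.fromSpecStalk u) := ⟨_, rfl⟩
      rw [Scheme.range_fromSpecStalk] at h4
      exact h4
    have h4 := K807.Gen.eq_of_specializes hβ h3 h2 hnc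
    have h5 : (⊥ : PrimeSpectrum O) = closedPoint O := by
      apply (U.fromSpecStalk u).isEmbedding.injective
      rw [h4]
      exact Scheme.fromSpecStalk_closedPoint.symm
    exact IsDiscreteValuationRing.not_a_field O (congrArg PrimeSpectrum.asIdeal h5).symm
  obtain ⟨m', hm'⟩ := K971.EtaNbhd.exists_fac_fromSpecStalk (R := CommRingCat.of K) (g₀ ≫ β ≫ φ) η (by
    exact (Scheme.Hom.comp_apply g₀ (β ≫ φ) _).trans (K481.Marks.eq_genericPoint hg₀))
  let e : Spec (CommRingCat.of K) ⟶ pullback (β ≫ φ) (S.fromSpecStalk η) := pullback.lift g₀ m' hm'.symm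
  have he : e ≫ pullback.fst (β ≫ φ) (S.fromSpecStalk η) = g₀ := pullback.lift_fst _ _ _
  have hcs : (e ≫ G.s ≫ G.j ≫ pullback.fst f β) ≫ f =
      Spec.map (CommRingCat.ofHom (algebraMap O K)) ≫ U.fromSpecStalk u ≫ β := by
    have h1 := w_eq G
    have h2 := s_snd G
    rw [Category.assoc, Category.assoc, ← h1, ← Category.assoc G.s, h2, ← Category.assoc, he, Category.assoc]
  have hex : ValuativeCriterion.Existence f := by
    have h1 : UniversallyClosed f := inferInstance
    rw [UniversallyClosed.eq_valuativeCriterion] at h1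
    exact h1.1
  obtain ⟨⟨ℓ, hℓ1, hℓ2⟩⟩ := (hex
    { R := O, domain := hdO, valuationRing := hval, K := K, i₁ := e ≫ G.s ≫ G.j ≫ pullback.fst f β, i₂ := U.fromSpecStalk u ≫ β, commSq := ⟨hcs⟩ }).exists_lift
  have hℓ : ℓ ≫ f = U.fromSpecStalk u ≫ β := hℓ2
  have key : ∀ w, h w = u → G.j w = (pullback.lift ℓ (U.fromSpecStalk u) hℓ) (closedPoint O) := by
    intro w hw
    obtain ⟨T, _, _, _, g, hg, hg'⟩ := exists_dvr_graph G w (by rw [← hh, hw, hu])
    obtain ⟨m, hm⟩ := K971.EtaNbhd.exists_fac_fromSpecStalk (R := CommRingCat.of T) (g ≫ h) u (by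
      refine (Scheme.Hom.comp_apply g h _).trans ?_
      have h1 : g (closedPoint (CommRingCat.of T)) = w := hg
      rw [h1, hw])
    have hmc : m (closedPoint (CommRingCat.of T)) = closedPoint O := by
      apply (U.fromSpecStalk u).isEmbedding.injective
      have h1 : (U.fromSpecStalk u) (m (closedPoint (CommRingCat.of T))) = (m ≫ U.fromSpecStalk u) (closedPoint (CommRingCat.of T)) :=
        (Scheme.Hom.comp_apply _ _ _).symm
      rw [h1, hm, Scheme.fromSpecStalk_closedPoint]
      refine (Scheme.Hom.comp_apply g h _).trans ?_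
      have h2 : g (closedPoint (CommRingCat.of T)) = w := hg
      rw [h2, hw]
    have h3 : g ≫ G.j ≫ pullback.fst f β = m ≫ ℓ := by
      refine hom_eq hη ((g ≫ G.j ≫ pullback.fst f β) ≫ f) ?_ _ _ rfl ?_
      · exact hg'
      · rw [Category.assoc, hℓ, ← Category.assoc, hm, hh]
        simp only [Category.assoc]
        rw [pullback.condition]
    have h4 : g ≫ G.j = m ≫ pullback.lift ℓ (U.fromSpecStalk u) hℓ := by
      apply pullback.hom_ext
      · rw [Category.assoc, h3, Category.assoc, pullback.lift_fst]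
      · rw [Category.assoc, Category.assoc, pullback.lift_snd, hm]
    have h5 : (g ≫ G.j) (closedPoint (CommRingCat.of T)) = G.j w := by
      refine (Scheme.Hom.comp_apply _ _ _).trans ?_
      exact congrArg G.j hg
    rw [← h5, h4]
    refine (Scheme.Hom.comp_apply _ _ _).trans ?_
    rw [hmc]
  intro w hw w' hw'
  apply G.j.isClosedEmbedding.injective
  rw [key w hw, key w' hw']

/-- The fibres over the closed points of the special fibre. -/
theorem finite_of_isClosed [IsAlgClosed (ResidueField R)] [IsProper f] [LocallyOfFiniteType (β ≫ φ)]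
    (u : U) (hu : (β ≫ φ) u = (closedPoint R : PrimeSpectrum R)) (hc : IsClosed ({u} : Set U))
    (H : ∀ ξ : X, ¬ IsClosed ({ξ} : Set X) →
      φ (f ξ) = (closedPoint R : PrimeSpectrum R) → IsEmpty (K807.Iface.Dat φ f β u ξ)) :
    ((G.j ≫ pullback.snd f β) ⁻¹' {u}).Finite := by
  have hcl := G.closed
  set h := G.j ≫ pullback.snd f β with hh
  set b := G.j ≫ pullback.fst f β with hb
  have hwe : h ≫ β = b ≫ f := w_eq G
  -- the images in `X` are closed
  have hA : ∀ w, h w = u → IsClosed ({b w} : Set X) := by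
    intro w hw
    by_contra hcon
    obtain ⟨T, _, _, _, g, hg, hg'⟩ := exists_dvr_graph G w (by rw [← hh, hw, hu])
    refine (H (b w) hcon ?_).false ⟨T, g ≫ h, g ≫ b, ?_, ?_, ?_, ?_⟩
    · have h1 : φ (f (b w)) = (β ≫ φ) (h w) := by
        have h2 : (b ≫ f ≫ φ) w = (h ≫ β ≫ φ) w := by
          rw [← Category.assoc, ← Category.assoc, hwe]
        simpa only [Scheme.Hom.comp_apply] using h2
      rw [h1, hw, hu]
    · exact (Category.assoc g h β).trans ((congrArg (g ≫ ·) hwe).trans (Category.assoc g b f).symm)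
    · refine (Scheme.Hom.comp_apply _ _ _).trans ?_
      exact (congrArg h hg).trans hw
    · refine (Scheme.Hom.comp_apply _ _ _).trans ?_
      exact congrArg b hg
    · exact hg'
  have hB : ∀ w w', h w = u → h w' = u → w ⤳ w' → w = w' := by
    intro w w' hw hw' hs
    have h1 : b w = b w' := by
      have h2 : b w ⤳ b w' := hs.map b.continuous
      have h3 := (hA w hw).closure_eq
      rw [specializes_iff_mem_closure, h3] at h2
      exact h2.symm
    apply G.j.isClosedEmbedding.injective
    refine Groth.Agent.S0408.eq_of_fst_eq_of_snd_eq f β u (residueFieldMap_surjective β φ u hc ?_) _ _ ?_ ?_ ?_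
    · rw [← Scheme.Hom.comp_apply]; exact hu
    · rw [← Scheme.Hom.comp_apply, ← Scheme.Hom.comp_apply]
      exact h1
    · rw [← Scheme.Hom.comp_apply]
      exact hw'
    · rw [← Scheme.Hom.comp_apply]
      exact hw
  have hlft : LocallyOfFiniteType (h.fiberToSpecResidueField u) :=
    MorphismProperty.pullback_snd _ _ inferInstance
  have hqc : QuasiCompact (h.fiberToSpecResidueField u) :=
    MorphismProperty.pullback_snd _ _ inferInstance
  have hN : IsLocallyNoetherian (h.fiber u) :=
    LocallyOfFiniteType.isLocallyNoetherian (h.fiberToSpecResidueField u)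
  have hC : CompactSpace (h.fiber u) := QuasiCompact.compactSpace_of_compactSpace (h.fiberToSpecResidueField u)
  have hN' : IsNoetherian (h.fiber u) := ⟨⟩
  have hfib : ∀ z, h (h.fiberι u z) = u := Groth.Agent.CycB.FiberStalk.fiberι_mem h u
  have hfin : (Set.univ : Set (h.fiber u)).Finite := by
    refine K971.FinFib.finite_of_isClosed _ _ isClosed_univ ?_
    intro z _
    have h1 : closure ({z} : Set (h.fiber u)) = {z} := by
      refine Set.Subset.antisymm ?_ subset_closure
      intro z' hz'
      have h2 : z ⤳ z' := specializes_iff_mem_closure.2 hz'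
      have h3 := hB _ _ (hfib z) (hfib z') (h2.map (h.fiberι u).continuous)
      exact ((h.fiberι u).isEmbedding.injective h3).symm
    rw [← h1]
    exact isClosed_closure
  have h1 : h ⁻¹' {u} = h.fiberι u '' Set.univ := by
    rw [Set.image_univ, h.range_fiberι]
  rw [h1]
  exact hfin.image _

end Main

/-- **Extension of morphisms** into proper modifications over a discrete valuation ring. -/
theorem main : K807.Iface.Ext.{u} := by
  intro R _ _ _ _ C X U φ _ _ f _ hη β hβ H
  have hdomR : IsDomain (CommRingCat.of R) := inferInstanceAs (IsDomain R)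
  have hfl : Flat (β ≫ φ) := hβ.1
  have hlfp : LocallyOfFinitePresentation (β ≫ φ) := hβ.2.1
  obtain ⟨G⟩ := ExtGen.exists_graph φ f hη (β ≫ φ) β rfl
  refine ExtGen.exists_hom_of_finite (K122.ValBase.isNormalScheme R) f (β ≫ φ) (ExtGen.red_of_nodal hβ) β G ?_
  intro u
  by_cases hu : (β ≫ φ) u = (closedPoint R : PrimeSpectrum R)
  · by_cases hc : IsClosed ({u} : Set U)
    · exact finite_of_isClosed G u hu hc (fun ξ hξ hξ' => H u ξ hc hξ hξ')
    · exact (subsingleton_of_not_isClosed G hη hβ u hu hc).finite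
  · exact (subsingleton_generic G u hu).finite

end K761.Ext
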